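import Cfsg.Agent.Helper28.HENL.Data

set_option autoImplicit false

namespace Cfsg.Agent.Helper28.HENL

theorem lb2_16 : Cfsg.Agent.Helper28.ptChunk (Cfsg.Agent.Helper28.lbPt Cfsg.Agent.Helper28.HEN.T 8330 W2 ov2 op2 otp2 otw2) 4480 256 16 = true := by decide +kernel

theorem lb2_17 : Cfsg.Agent.Helper28.ptChunk (Cfsg.Agent.Helper28.lbPt Cfsg.Agent.Helper28.HEN.T 8330 W2 ov2 op2 otp2 otw2) 4480 256 17 = true := by decide +kernel

end Cfsg.Agent.Helper28.HENL
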