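import Cfsg.Agent.Helper28.HEN.Cert
import Cfsg.Agent.Helper28.HENL.Lb2_0
import Cfsg.Agent.Helper28.HENL.Lb2_1
import Cfsg.Agent.Helper28.HENL.Lb2_2
import Cfsg.Agent.Helper28.HENL.Lb3_0

set_option autoImplicit false

namespace Cfsg.Agent.Helper28.HENL

theorem lb2_all : ∀ t, t < 4480 → Cfsg.Agent.Helper28.lbPt Cfsg.Agent.Helper28.HEN.T 8330 W2 ov2 op2 otp2 otw2 t = true :=
  Cfsg.Agent.Helper28.pts_of_chunks _ 4480 256 18 (by decide) (by decide)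
    (Cfsg.Agent.Helper28.allLt_succ _ 17 (Cfsg.Agent.Helper28.allLt_succ _ 16 (Cfsg.Agent.Helper28.allLt_succ _ 15 (Cfsg.Agent.Helper28.allLt_succ _ 14 (Cfsg.Agent.Helper28.allLt_succ _ 13 (Cfsg.Agent.Helper28.allLt_succ _ 12 (Cfsg.Agent.Helper28.allLt_succ _ 11 (Cfsg.Agent.Helper28.allLt_succ _ 10 (Cfsg.Agent.Helper28.allLt_succ _ 9 (Cfsg.Agent.Helper28.allLt_succ _ 8 (Cfsg.Agent.Helper28.allLt_succ _ 7 (Cfsg.Agent.Helper28.allLt_succ _ 6 (Cfsg.Agent.Helper28.allLt_succ _ 5 (Cfsg.Agent.Helper28.allLt_succ _ 4 (Cfsg.Agent.Helper28.allLt_succ _ 3 (Cfsg.Agent.Helper28.allLt_succ _ 2 (Cfsg.Agent.Helper28.allLt_succ _ 1 (Cfsg.Agent.Helper28.allLt_succ _ 0 (Cfsg.Agent.Helper28.allLt_zero _) lb2_0) lb2_1) lb2_2) lb2_3) lb2_4) lb2_5) lb2_6) lb2_7) lb2_8) lb2_9) lb2_10) lb2_11) lb2_12) lb2_13) lb2_14) lb2_15) lb2_16) lb2_17)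

theorem fix2 : Cfsg.Agent.Helper28.fixChk Cfsg.Agent.Helper28.HEN.T 7 W2 [0] = true := by decide +kernel

theorem lb3_all : ∀ t, t < 108 → Cfsg.Agent.Helper28.lbPt Cfsg.Agent.Helper28.HEN.T 8330 W3 ov3 op3 otp3 otw3 t = true :=
  Cfsg.Agent.Helper28.pts_of_chunks _ 108 256 1 (by decide) (by decide)
    (Cfsg.Agent.Helper28.allLt_succ _ 0 (Cfsg.Agent.Helper28.allLt_zero _) lb3_0)

theorem fix3 : Cfsg.Agent.Helper28.fixChk Cfsg.Agent.Helper28.HEN.T 7 W3 [ov2 0, 0] = true := by decide +kernel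

/-- the stabiliser chain bounds the order from below -/
theorem lb_chain [Finite Cfsg.Spor.He] :
    8330 * 4480 * 108 * Nat.card (Cfsg.Agent.Helper28.fixSub Cfsg.Agent.Helper28.HEN.cert.perm [ov3 0, ov2 0, 0]) ≤ Nat.card Cfsg.Spor.He :=
  Cfsg.Agent.Helper28.chain_mul (Cfsg.Agent.Helper28.chain_mul (Cfsg.Agent.Helper28.HEN.cert.lb_top) (Cfsg.Agent.Helper28.HEN.cert.lb_level [0] W2 4480 ov2 op2 otp2 otw2 fix2 lb2_all)) (Cfsg.Agent.Helper28.HEN.cert.lb_level [ov2 0, 0] W3 108 ov3 op3 otp3 otw3 fix3 lb3_all)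

end Cfsg.Agent.Helper28.HENL
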